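import Mathlib.AlgebraicGeometry.Limits
import Mathlib.AlgebraicGeometry.Gluing
import Mathlib.AlgebraicGeometry.Pullbacks

/-!
Gluing morphisms along the coprojections of a coproduct of schemes.
-/

set_option autoImplicit false
set_option backward.isDefEq.respectTransparency false
set_option backward.isDefEq.respectTransparency.types false

universe w u

open CategoryTheory CategoryTheory.Limits AlgebraicGeometry

namespace Groth.Agent.Lib.DescAlg.Sigma.Coprod

variable {ι : Type w} [Small.{u} ι] {X : ι → Scheme.{u}}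

theorem ι_cases {T : Scheme.{u}} {i k : ι} (a : T ⟶ X i) (b : T ⟶ X k)
    (h : a ≫ Sigma.ι X i = b ≫ Sigma.ι X k) : i = k ∨ IsEmpty T := by
  rcases em (i = k) with e | e
  · exact Or.inl e
  · exact Or.inr (isEmpty_of_commSq_sigmaι_of_ne ⟨h⟩ e)

theorem ext_of_isEmpty {T Z : Scheme.{u}} [IsEmpty T] (a b : T ⟶ Z) : a = b :=
  isInitialOfIsEmpty.hom_ext a b

/-- Two morphisms agreeing on all pieces over the coprojections are equal. -/
theorem hom_ext {T Z : Scheme.{u}} (h : T ⟶ ∐ X) (a b : T ⟶ Z)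
    (H : ∀ ⦃T' : Scheme.{u}⦄ (c : T' ⟶ T) (i : ι) (v : T' ⟶ X i),
      c ≫ h = v ≫ Sigma.ι X i → c ≫ a = c ≫ b) : a = b :=
  Scheme.Cover.hom_ext ((sigmaOpenCover X).pullback₁ h) a b fun i ↦
    H (pullback.fst h (Sigma.ι X i)) i (pullback.snd _ _) pullback.condition

/-- Natural assignments on pieces glue. -/
theorem exists_glue {T Z : Scheme.{u}} (h : T ⟶ ∐ X)
    (F : ∀ ⦃T' : Scheme.{u}⦄ (c : T' ⟶ T) (i : ι) (v : T' ⟶ X i),
      c ≫ h = v ≫ Sigma.ι X i → (T' ⟶ Z))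
    (hF : ∀ ⦃T' T'' : Scheme.{u}⦄ (d : T'' ⟶ T') (c : T' ⟶ T) (i : ι) (v : T' ⟶ X i)
      (e : c ≫ h = v ≫ Sigma.ι X i),
      F (d ≫ c) i (d ≫ v) (by simp [e]) = d ≫ F c i v e) :
    ∃ w : T ⟶ Z, ∀ ⦃T' : Scheme.{u}⦄ (c : T' ⟶ T) (i : ι) (v : T' ⟶ X i)
      (e : c ≫ h = v ≫ Sigma.ι X i), c ≫ w = F c i v e := by
  let 𝒰 := (sigmaOpenCover X).pullback₁ h
  have congr : ∀ ⦃T' : Scheme.{u}⦄ (c c' : T' ⟶ T) (i : ι) (v v' : T' ⟶ X i)
      (e : c ≫ h = v ≫ Sigma.ι X i) (e' : c' ≫ h = v' ≫ Sigma.ι X i),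
      c = c' → v = v' → F c i v e = F c' i v' e' := by
    intro T' c c' i v v' e e' hc hv; subst hc hv; rfl
  have indep : ∀ ⦃T' : Scheme.{u}⦄ (c c' : T' ⟶ T) (i k : ι) (v : T' ⟶ X i) (v' : T' ⟶ X k)
      (e : c ≫ h = v ≫ Sigma.ι X i) (e' : c' ≫ h = v' ≫ Sigma.ι X k),
      c = c' → F c i v e = F c' k v' e' := by
    intro T' c c' i k v v' e e' hc
    rcases ι_cases v v' (by rw [← e, hc, e']) with rfl | hT
    · exact congr c c' i v v' e e' hc ((cancel_mono (Sigma.ι X i)).1 (by rw [← e, hc, e']))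
    · exact ext_of_isEmpty _ _
  have compat : ∀ i k : ι, pullback.fst (pullback.fst h (Sigma.ι X i)) (pullback.fst h (Sigma.ι X k)) ≫
      F (pullback.fst h (Sigma.ι X i)) i (pullback.snd _ _) pullback.condition =
      pullback.snd (pullback.fst h (Sigma.ι X i)) (pullback.fst h (Sigma.ι X k)) ≫
      F (pullback.fst h (Sigma.ι X k)) k (pullback.snd _ _) pullback.condition := by
    intro i k
    rw [← hF, ← hF]
    exact indep _ _ _ _ _ _ _ _ pullback.condition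
  let w : T ⟶ Z := Scheme.Cover.glueMorphisms 𝒰
    (fun i ↦ F (pullback.fst h (Sigma.ι X i)) i (pullback.snd _ _) pullback.condition) compat
  refine ⟨w, fun T' c i v e ↦ ?_⟩
  have hw : pullback.fst h (Sigma.ι X i) ≫ w =
      F (pullback.fst h (Sigma.ι X i)) i (pullback.snd _ _) pullback.condition :=
    Scheme.Cover.ι_glueMorphisms 𝒰 _ _ i
  calc c ≫ w = pullback.lift c v e ≫ pullback.fst h (Sigma.ι X i) ≫ w := by
        rw [pullback.lift_fst_assoc]
    _ = F c i v e := by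
        rw [hw, ← hF]
        exact congr _ _ _ _ _ _ _ (pullback.lift_fst _ _ _) (pullback.lift_snd _ _ _)

variable {Y : ι → Scheme.{u}} (f : ∀ i, Y i ⟶ X i)

/-- Coproduct squares are cartesian. -/
theorem isPullback_map (i : ι) :
    IsPullback (f i) (Sigma.ι Y i) (Sigma.ι X i) (Limits.Sigma.map f) := by
  have w : f i ≫ Sigma.ι X i = Sigma.ι Y i ≫ Limits.Sigma.map f := (Limits.Sigma.ι_map f i).symm
  refine IsPullback.of_isLimit (PullbackCone.IsLimit.mk w
    (fun s ↦ IsOpenImmersion.lift (Sigma.ι Y i) s.snd ?h) (fun s ↦ ?_)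
    (fun s ↦ IsOpenImmersion.lift_fac _ _ _) (fun s m _ hm ↦ ?_))
  case h =>
    rintro _ ⟨z, rfl⟩
    obtain ⟨k, y, hy⟩ := (sigmaOpenCover Y).exists_eq (s.snd z)
    have e : (Sigma.ι Y k ≫ Limits.Sigma.map f) y = (Sigma.ι X i) (s.fst z) := by
      refine (Scheme.Hom.comp_apply _ _ _).trans ?_
      show Limits.Sigma.map f ((sigmaOpenCover Y).f k y) = _
      rw [hy, ← Scheme.Hom.comp_apply, ← s.condition, Scheme.Hom.comp_apply]
    rw [Limits.Sigma.ι_map, Scheme.Hom.comp_apply, sigmaι_eq_iff] at e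
    obtain rfl : k = i := congrArg _root_.Sigma.fst e
    exact ⟨y, hy⟩
  · rw [← cancel_mono (Sigma.ι X i), Category.assoc, w, IsOpenImmersion.lift_fac_assoc, s.condition]
  · rw [← cancel_mono (Sigma.ι Y i), hm, IsOpenImmersion.lift_fac]

end Groth.Agent.Lib.DescAlg.Sigma.Coprod
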