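import Groth.Agent.Lib.DescAlg.Sigma.Coprod
import Groth.Agent.Lib.DescAlg.DDFam.Cover
import Mathlib.AlgebraicGeometry.Sites.Fpqc

/-!
Descent data relative to a family of morphisms are descent data relative to the coproduct.
-/

set_option autoImplicit false
set_option backward.isDefEq.respectTransparency false
set_option backward.isDefEq.respectTransparency.types false

universe u

open CategoryTheory CategoryTheory.Limits AlgebraicGeometry Desc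

namespace Groth.Agent.Lib.DescAlg.Sigma.Family

open Groth.Agent.Lib.DescAlg.Sigma.Coprod Groth.Agent.Lib.DescAlg.DDFam.Basic

variable {ι : Type u} {S : Scheme.{u}} {U : ι → Scheme.{u}} {u : ∀ i, U i ⟶ S} (D : SchDDFam u)

/-- The schemes of the datum. -/
abbrev V (i : ι) : Scheme.{u} := (D.obj i).left

/-- The structure morphism of the coproduct. -/
noncomputable abbrev π : ∐ V D ⟶ ∐ U := Limits.Sigma.map fun i ↦ (D.obj i).hom

/-- Compatibility of a candidate value on all pieces. -/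
def Rel {T : Scheme.{u}} (v : T ⟶ ∐ V D) (x₁ : T ⟶ ∐ U) (w : T ⟶ ∐ V D) : Prop :=
  ∀ ⦃T' : Scheme.{u}⦄ (c : T' ⟶ T) (i j : ι) (a : T' ⟶ V D i) (y : T' ⟶ U j),
    c ≫ v = a ≫ Sigma.ι (V D) i → c ≫ x₁ = y ≫ Sigma.ι U j →
    ∀ hx : (a ≫ (D.obj i).hom) ≫ u i = y ≫ u j,
    c ≫ w = (D.φ (a ≫ (D.obj i).hom) y hx ⟨a, rfl⟩).1 ≫ Sigma.ι (V D) j

variable {D}

theorem piece_eq {T T' : Scheme.{u}} {v : T ⟶ ∐ V D} {x₁ : T ⟶ ∐ U}
    (h : (v ≫ π D) ≫ Sigma.desc u = x₁ ≫ Sigma.desc u) {c : T' ⟶ T} {i j : ι} {a : T' ⟶ V D i}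
    {y : T' ⟶ U j} (ha : c ≫ v = a ≫ Sigma.ι (V D) i) (hy : c ≫ x₁ = y ≫ Sigma.ι U j) :
    (a ≫ (D.obj i).hom) ≫ u i = y ≫ u j := by
  have e := congrArg (c ≫ ·) h
  simp only [← Category.assoc] at e
  rw [ha, hy] at e
  simpa using e

theorem rel_unique {T : Scheme.{u}} {v : T ⟶ ∐ V D} {x₁ : T ⟶ ∐ U}
    (h : (v ≫ π D) ≫ Sigma.desc u = x₁ ≫ Sigma.desc u) {w w' : T ⟶ ∐ V D}
    (hw : Rel D v x₁ w) (hw' : Rel D v x₁ w') : w = w' := by
  refine hom_ext v _ _ fun T₁ c i a ha ↦ hom_ext (c ≫ x₁) _ _ fun T₂ d j y hy ↦ ?_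
  have e1 : (d ≫ c) ≫ v = (d ≫ a) ≫ Sigma.ι (V D) i := by rw [Category.assoc, ha, Category.assoc]
  have e2 : (d ≫ c) ≫ x₁ = y ≫ Sigma.ι U j := by rw [Category.assoc, hy]
  rw [← Category.assoc, ← Category.assoc, hw _ i j _ y e1 e2 (piece_eq h e1 e2),
    hw' _ i j _ y e1 e2 (piece_eq h e1 e2)]

theorem exists_rel {T : Scheme.{u}} {v : T ⟶ ∐ V D} {x₁ : T ⟶ ∐ U}
    (h : (v ≫ π D) ≫ Sigma.desc u = x₁ ≫ Sigma.desc u) :
    ∃ w, Rel D v x₁ w := by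
  have inner : ∀ ⦃T' : Scheme.{u}⦄ (c : T' ⟶ T) (i : ι) (a : T' ⟶ V D i),
      c ≫ v = a ≫ Sigma.ι (V D) i → ∃ w : T' ⟶ ∐ V D,
        ∀ ⦃T'' : Scheme.{u}⦄ (d : T'' ⟶ T') (j : ι) (y : T'' ⟶ U j),
          d ≫ c ≫ x₁ = y ≫ Sigma.ι U j → ∀ hx : ((d ≫ a) ≫ (D.obj i).hom) ≫ u i = y ≫ u j,
          d ≫ w = (D.φ ((d ≫ a) ≫ (D.obj i).hom) y hx ⟨d ≫ a, rfl⟩).1 ≫ Sigma.ι (V D) j := by
    intro T' c i a ha
    have hx : ∀ ⦃T'' : Scheme.{u}⦄ (d : T'' ⟶ T') (j : ι) (y : T'' ⟶ U j),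
        d ≫ c ≫ x₁ = y ≫ Sigma.ι U j → ((d ≫ a) ≫ (D.obj i).hom) ≫ u i = y ≫ u j :=
      fun T'' d j y hy ↦ piece_eq h (c := d ≫ c) (by rw [Category.assoc, ha, Category.assoc])
        (by rw [Category.assoc, hy])
    obtain ⟨w, hw⟩ := exists_glue (Z := ∐ V D) (c ≫ x₁)
      (fun T'' d j y hy ↦ (D.φ ((d ≫ a) ≫ (D.obj i).hom) y (hx d j y hy) ⟨d ≫ a, rfl⟩).1 ≫
        Sigma.ι (V D) j)
      (fun T'' T''' e d j y hy ↦ by
        refine Eq.trans ?_ (Category.assoc _ _ _)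
        rw [comp_φ]
        congr 1)
    exact ⟨w, fun T'' d j y hy _ ↦ hw d j y hy⟩
  choose W hW using inner
  obtain ⟨w, hw⟩ := exists_glue (Z := ∐ V D) v W (fun T' T'' d c i a ha ↦ by
    refine hom_ext ((d ≫ c) ≫ x₁) _ _ fun T₃ e j y hy ↦ ?_
    have hy' : (e ≫ d) ≫ c ≫ x₁ = y ≫ Sigma.ι U j := by simpa using hy
    have hx1 : (((e ≫ d) ≫ a) ≫ (D.obj i).hom) ≫ u i = y ≫ u j :=
      piece_eq h (c := (e ≫ d) ≫ c) (by rw [Category.assoc, ha, Category.assoc]; simp)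
        (by simpa using hy')
    have hx2 : ((e ≫ d ≫ a) ≫ (D.obj i).hom) ≫ u i = y ≫ u j := by simpa using hx1
    refine (hW _ _ _ _ e j y hy hx2).trans (Eq.trans ?_
      ((hW c i a ha (e ≫ d) j y hy' hx1).symm.trans (Category.assoc _ _ _)))
    congr 1)
  refine ⟨w, fun T' c i j a y ha hy hx ↦ ?_⟩
  have := hW c i a ha (𝟙 T') j y (by rw [Category.id_comp, hy]) (by simpa using hx)
  rw [Category.id_comp] at this
  rw [hw c i a ha, this]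
  congr 1

theorem rel_hom {T : Scheme.{u}} {v : T ⟶ ∐ V D} {x₁ : T ⟶ ∐ U}
    (h : (v ≫ π D) ≫ Sigma.desc u = x₁ ≫ Sigma.desc u) {w : T ⟶ ∐ V D} (hw : Rel D v x₁ w) :
    w ≫ π D = x₁ := by
  refine hom_ext v _ _ fun T₁ c i a ha ↦ hom_ext (c ≫ x₁) _ _ fun T₂ d j y hy ↦ ?_
  have e1 : (d ≫ c) ≫ v = (d ≫ a) ≫ Sigma.ι (V D) i := by rw [Category.assoc, ha, Category.assoc]
  have e2 : (d ≫ c) ≫ x₁ = y ≫ Sigma.ι U j := by rw [Category.assoc, hy]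
  rw [← Category.assoc, ← Category.assoc, ← Category.assoc, hw _ i j _ y e1 e2 (piece_eq h e1 e2),
    e2, Category.assoc]
  show (D.φ _ _ _ _).1 ≫ Sigma.ι (V D) j ≫ π D = _
  rw [Limits.Sigma.ι_map, ← Category.assoc, (D.φ _ _ _ _).2]

theorem rel_self {T : Scheme.{u}} (v : T ⟶ ∐ V D) : Rel D v (v ≫ π D) v := by
  intro T' c i j a y ha hy hx
  have e : y ≫ Sigma.ι U j = (a ≫ (D.obj i).hom) ≫ Sigma.ι U i := by
    rw [← hy, ← Category.assoc, ha, Category.assoc, Limits.Sigma.ι_map, Category.assoc]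
  rcases ι_cases _ _ e with rfl | hT
  · obtain rfl := (cancel_mono (Sigma.ι U j)).1 e
    rw [D.φ_self, ha]
  · exact ext_of_isEmpty _ _

theorem rel_trans {T : Scheme.{u}} {v w z : T ⟶ ∐ V D} {x₁ x₂ : T ⟶ ∐ U}
    (h : (v ≫ π D) ≫ Sigma.desc u = x₁ ≫ Sigma.desc u) (h' : x₁ ≫ Sigma.desc u = x₂ ≫ Sigma.desc u)
    (hw : Rel D v x₁ w) (hz : Rel D w x₂ z) : Rel D v x₂ z := by
  intro T' c i k a y₂ ha hy₂ hx
  refine hom_ext (c ≫ x₁) _ _ fun T₂ d j y hy ↦ ?_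
  have e1 : (d ≫ c) ≫ v = (d ≫ a) ≫ Sigma.ι (V D) i := by rw [Category.assoc, ha, Category.assoc]
  have e2 : (d ≫ c) ≫ x₁ = y ≫ Sigma.ι U j := by rw [Category.assoc, hy]
  have e3 : (d ≫ c) ≫ x₂ = (d ≫ y₂) ≫ Sigma.ι U k := by rw [Category.assoc, hy₂, Category.assoc]
  have hwd := hw _ i j _ y e1 e2 (piece_eq h e1 e2)
  have hxjk : y ≫ u j = (d ≫ y₂) ≫ u k := by
    have := congrArg ((d ≫ c) ≫ ·) h'
    simp only [← Category.assoc] at this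
    rw [e2, e3] at this
    simpa using this
  have hzd := hz (d ≫ c) j k (D.φ _ _ (piece_eq h e1 e2) ⟨d ≫ a, rfl⟩).1 (d ≫ y₂) hwd e3
    (by rw [(D.φ _ _ _ _).2, hxjk])
  rw [← Category.assoc, hzd, ← Category.assoc d]
  congr 1
  rw [comp_φ]
  refine (φ_congr D hxjk _ (D.φ _ _ _ _).2 rfl
    (D.φ _ _ (piece_eq h e1 e2) ⟨d ≫ a, rfl⟩) _ rfl).trans ?_
  rw [D.φ_comp]
  exact φ_congr D _ _ (Category.assoc _ _ _) rfl _ _ rfl

variable (D)

/-- The gluing map on lifts. -/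
noncomputable def move {T : Scheme.{u}} (x₀ x₁ : T ⟶ ∐ U)
    (h : x₀ ≫ Sigma.desc u = x₁ ≫ Sigma.desc u) (v : Lifts (Over.mk (π D)) x₀) :
    Lifts (Over.mk (π D)) x₁ :=
  have hv : (v.1 ≫ π D) ≫ Sigma.desc u = x₁ ≫ Sigma.desc u := (congrArg (· ≫ _) v.2).trans h
  ⟨(exists_rel hv).choose, rel_hom hv (exists_rel hv).choose_spec⟩

theorem move_rel {T : Scheme.{u}} (x₀ x₁ : T ⟶ ∐ U)
    (h : x₀ ≫ Sigma.desc u = x₁ ≫ Sigma.desc u) (v : Lifts (Over.mk (π D)) x₀) :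
    Rel D v.1 x₁ (move D x₀ x₁ h v).1 :=
  (exists_rel ((congrArg (· ≫ _) v.2).trans h : (v.1 ≫ π D) ≫ _ = _)).choose_spec

theorem move_unique {T : Scheme.{u}} (x₀ x₁ : T ⟶ ∐ U)
    (h : x₀ ≫ Sigma.desc u = x₁ ≫ Sigma.desc u) (v : Lifts (Over.mk (π D)) x₀)
    (w : T ⟶ ∐ V D) (hw : Rel D v.1 x₁ w) : (move D x₀ x₁ h v).1 = w :=
  rel_unique ((congrArg (· ≫ _) v.2).trans h : (v.1 ≫ π D) ≫ _ = _) (move_rel D x₀ x₁ h v) hw

theorem move_self {T : Scheme.{u}} (x : T ⟶ ∐ U) (v : Lifts (Over.mk (π D)) x) :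
    move D x x rfl v = v := by
  obtain ⟨v, rfl⟩ := v
  exact Subtype.ext (move_unique D _ _ rfl ⟨v, rfl⟩ v (rel_self v))

theorem move_comp {T : Scheme.{u}} (x₀ x₁ x₂ : T ⟶ ∐ U)
    (h : x₀ ≫ Sigma.desc u = x₁ ≫ Sigma.desc u) (h' : x₁ ≫ Sigma.desc u = x₂ ≫ Sigma.desc u)
    (v : Lifts (Over.mk (π D)) x₀) :
    move D x₁ x₂ h' (move D x₀ x₁ h v) = move D x₀ x₂ (h.trans h') v :=
  Subtype.ext (move_unique D x₀ x₂ (h.trans h') v _
    (rel_trans ((congrArg (· ≫ _) v.2).trans h) h' (move_rel D _ _ h v) (move_rel D _ _ h' _))).symm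

theorem move_natural {T T' : Scheme.{u}} (g : T' ⟶ T) (x₀ x₁ : T ⟶ ∐ U)
    (h : x₀ ≫ Sigma.desc u = x₁ ≫ Sigma.desc u)
    (h' : (g ≫ x₀) ≫ Sigma.desc u = (g ≫ x₁) ≫ Sigma.desc u) (v : Lifts (Over.mk (π D)) x₀)
    (v' : Lifts (Over.mk (π D)) (g ≫ x₀)) (hv' : v'.1 = g ≫ v.1) :
    (move D (g ≫ x₀) (g ≫ x₁) h' v').1 = g ≫ (move D x₀ x₁ h v).1 := by
  refine move_unique D _ _ h' v' _ fun T₁ c i j a y ha hy hx ↦ ?_
  rw [← Category.assoc]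
  exact move_rel D x₀ x₁ h v (c ≫ g) i j a y (by rw [Category.assoc, ← hv', ha])
    (by rw [Category.assoc, hy]) hx

/-- The descent datum relative to the coproduct. -/
noncomputable def datum : SchDD (Sigma.desc u) where
  obj := Over.mk (π D)
  φ T x₀ x₁ h :=
    { toFun := move D x₀ x₁ h
      invFun := move D x₁ x₀ h.symm
      left_inv := fun v ↦ (move_comp D x₀ x₁ x₀ h h.symm v).trans (move_self D x₀ v)
      right_inv := fun v ↦ (move_comp D x₁ x₀ x₁ h.symm h v).trans (move_self D x₁ v) }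
  φ_natural T T' g x₀ x₁ h h' v v' hv' := move_natural D g x₀ x₁ h h' v v' hv'
  φ_self T x v := move_self D x v
  φ_comp T x₀ x₁ x₂ h₀₁ h₁₂ v := move_comp D x₀ x₁ x₂ h₀₁ h₁₂ v

theorem ι_w (i : ι) : Sigma.ι U i ≫ Sigma.desc u = u i ≫ 𝟙 S :=
  (Sigma.ι_desc u i).trans (Category.comp_id _).symm

/-- Restricting the datum on the coproduct gives back the datum. -/
noncomputable def restrictIso :
    (pullDDFam (f := fun _ : PUnit.{u + 1} => Sigma.desc u) (f' := u) (α := fun _ ↦ PUnit.unit)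
      (p := 𝟙 S) (p' := fun i ↦ Sigma.ι U i) (ι_w (u := u))).obj
      ((SchDDFam.ofSchDD (Sigma.desc u)).obj (datum D)) ≅ D :=
  mkIso
    (fun i ↦ Over.isoMk (isPullback_map (fun k ↦ (D.obj k).hom) i).flip.isoPullback.symm
      (isPullback_map (fun k ↦ (D.obj k).hom) i).flip.isoPullback_inv_snd)
    (fun T i j x₀ x₁ hx v w hw ↦ by
      simp only [Over.isoMk_hom_left, Iso.symm_hom] at hw ⊢
      apply (cancel_mono (Sigma.ι (V D) j)).1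
      rw [Category.assoc, IsPullback.isoPullback_inv_fst]
      dsimp [pullDDFam, pullDDFamObj, SchDDFam.ofSchDD, datum]
      simp only [liftsPullbackEquiv, Equiv.coe_fn_mk, Equiv.coe_fn_symm_mk]
      erw [pullback.lift_fst]
      have h1 := move_rel D (x₀ ≫ Sigma.ι U i) (x₁ ≫ Sigma.ι U j) (by simpa using hx)
        (liftsPullbackEquiv (Over.mk (π D)) (Sigma.ι U i) x₀ v) (𝟙 T) i j w.1 x₁
        (by
          rw [Category.id_comp, hw, Category.assoc, IsPullback.isoPullback_inv_fst]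
          rfl) (Category.id_comp _) (by rw [w.2, hx])
      rw [Category.id_comp] at h1
      refine Eq.trans ?_ h1.symm
      congr 1
      exact φ_congr D _ _ w.2.symm rfl _ _ rfl)

theorem ι_cover : ∀ _j : PUnit.{u + 1}, Presieve.ofArrows (fun i : {_i : ι // PUnit.unit = _j} => U i.1)
    (fun i => Sigma.ι U i.1 ≫ eqToHom (congrArg (fun _ : PUnit.{u + 1} => ∐ U) i.2)) ∈
    Scheme.fpqcPrecoverage (∐ U) := by
  intro j
  apply Scheme.zariskiPrecoverage_le_fpqcPrecoverage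
  simp only [eqToHom_refl, Category.comp_id]
  refine (Scheme.ofArrows_mem_precoverage_iff (P := @IsOpenImmersion)).2 ⟨fun x ↦ ?_, fun i ↦ inferInstance⟩
  obtain ⟨i, y, hy⟩ := (sigmaOpenCover U).exists_eq x
  exact ⟨⟨i, rfl⟩, y, hy⟩

/-- Descent data relative to a family are those relative to the coproduct. -/
theorem isEquivalence (u : ∀ i, U i ⟶ S) :
    (SchDDFam.ofSchDD (Sigma.desc u) ⋙
      pullDDFam (f := fun _ : PUnit.{u + 1} => Sigma.desc u) (f' := u) (α := fun _ ↦ PUnit.unit)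
        (p := 𝟙 S) (p' := fun i ↦ Sigma.ι U i) (ι_w (u := u))).IsEquivalence := by
  let P := pullDDFam (f := fun _ : PUnit.{u + 1} => Sigma.desc u) (f' := u) (α := fun _ ↦ PUnit.unit)
        (p := 𝟙 S) (p' := fun i ↦ Sigma.ι U i) (ι_w (u := u))
  have he : (SchDDFam.ofSchDD (Sigma.desc u)).IsEquivalence :=
    (SchDDFam.oneEquiv (Sigma.desc u)).isEquivalence_inverse
  have : P.Full := DDFam.FullFaithful.full _ (DDFam.Cover.jointlyEpi ι_cover) (DDFam.Cover.glue ι_cover)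
  have : P.Faithful := DDFam.FullFaithful.faithful _ (DDFam.Cover.jointlyEpi ι_cover)
  have : (SchDDFam.ofSchDD (Sigma.desc u) ⋙ P).EssSurj := ⟨fun D ↦ ⟨datum D, ⟨restrictIso D⟩⟩⟩
  exact { }

end Groth.Agent.Lib.DescAlg.Sigma.Family
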